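import Mathlib
import Cfsg.Agent.INV.Len.Tools
import Cfsg.Agent.INV.ZStar
import Cfsg.Agent.INV.ZStarElt

/-!
# An involution whose centralizer has a component with centre of odd order
-/

set_option linter.unusedSectionVars false

open Subgroup Cfsg CL.MSS CL.BG CL.JC CL.Dih CL.Z2
open scoped commutatorElement

namespace CL.Len

variable {G : Type*} [Group G] [Finite G] [IsSimpleGroup G]

theorem norm_ne_top (hG : ¬ IsMulCommutative G) {V : Subgroup G} (hV : IsPGroup 2 V) (h : V ≠ ⊥) :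
    𝐍(V) ≠ ⊤ := fun e => by
  rcases IsSimpleGroup.eq_bot_or_eq_top_of_normal V (normalizer_eq_top_iff.1 e) with e | e
  · exact h e
  · subst e
    have := hV.isNilpotent
    exact hG ⟨⟨IsSimpleGroup.comm_iff_isSolvable.2 (CL.isSolvable_of_mulEquiv topEquiv)⟩⟩

theorem c1_ne_top (hG : ¬ IsMulCommutative G) {u : G} (hu : orderOf u = 2) : 𝐂₁(u) ≠ ⊤ := fun e =>
  norm_ne_top hG (isPGroup_zpowers (k := 1) (by rw [pow_one, sq, sq_of_ord2 hu]))
    (fun k => ne_of_ord2 hu (zpowers_eq_bot.1 k)) (top_le_iff.1 (e.ge.trans fun g hg =>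
      mem_normalizer_iff_cj.2 (by rw [cj_zpowers, mem_c1.1 hg])))

theorem no_two (hG : ¬ IsMulCommutative G) (H : Subgroup G) : H.index ≠ 2 :=
  have := CL.AbS.isPerfect_of_simple hG
  CL.Fus.no_index_two_of_commutator_eq_top Group.IsPerfect.commutator_eq_top H

theorem solv_norm (hG : ¬ IsMulCommutative G) (h8 : ¬ L G 8) {V : Subgroup G} (hV : IsPGroup 2 V)
    (h : 2 ^ 3 ∣ #|V|) : Group.IsSolvable 𝐍(V) := by
  by_contra k
  have := hV.isNilpotent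
  exact h8 ((L.add_four_rel k le_normalizer le_rfl inferInstance (L.of_pow_dvd Nat.prime_two h)).succ_of_ne
    (norm_ne_top hG hV fun e => by rw [e, card_bot] at h; exact absurd h (by decide)))

omit [IsSimpleGroup G] in
theorem dvd_relIndex {K T H : Subgroup G} (hT : T ≤ H) (hK : H ≤ 𝐍(K)) (hle : K ≤ H) :
    K.relIndex T ∣ K.relIndex H := by
  have := (normal_subgroupOf_iff_le_normalizer hle).2 hK
  rw [← relIndex_subgroupOf hT]
  exact relIndex_dvd_index_of_normal _ _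

omit [IsSimpleGroup G] in
theorem L_of_relIndex {K T H : Subgroup G} (hT : T ≤ H) (hK : H ≤ 𝐍(K)) (hle : K ≤ H) {m j : ℕ}
    (h : L K m) (hj : 2 ^ j ∣ K.relIndex T) : L H (m + j) := by
  have := (normal_subgroupOf_iff_le_normalizer hle).2 hK
  exact L.add_rel hle h (L.of_pow_dvd Nat.prime_two (hj.trans (dvd_relIndex hT hK hle)))

omit [IsSimpleGroup G] in
theorem mul_mem_of_two {K T : Subgroup G} (h : K.relIndex T = 2) {a b : G} (ha : a ∈ T) (hb : b ∈ T)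
    (ha' : a ∉ K) (hb' : b ∉ K) : a * b ∈ K :=
  (mul_mem_iff_of_index_two h (a := ⟨a, ha⟩) (b := ⟨b, hb⟩)).2 (iff_of_false ha' hb')

omit [IsSimpleGroup G] in
theorem comm_le_of_four {K T : Subgroup G} (hK : T ≤ 𝐍(K)) (h : K.relIndex T ∣ 4) : ⁅T, T⁆ ≤ K := by
  have : (K.subgroupOf T).Normal := ⟨fun x hx g => conj_mem_of_normalizes hK g.2 hx⟩
  have : IsMulCommutative (T ⧸ K.subgroupOf T) := by
    obtain ⟨k, hk, e⟩ := (Nat.dvd_prime_pow Nat.prime_two).1 (show K.relIndex T ∣ 2 ^ 2 from h)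
    interval_cases k
    · have : Subsingleton (T ⧸ K.subgroupOf T) := (Nat.card_eq_one_iff_unique.1 e).1
      exact ⟨⟨fun a b => Subsingleton.elim _ _⟩⟩
    · have := isCyclic_of_prime_card (p := 2) (α := T ⧸ K.subgroupOf T) e
      exact ⟨⟨fun a b => by open scoped IsMulCommutative in exact mul_comm a b⟩⟩
    · exact IsPGroup.isMulCommutative_of_card_eq_prime_sq e
  refine commutator_le.2 fun a ha b hb => ?_
  refine (QuotientGroup.eq_one_iff (N := K.subgroupOf T) ⁅(⟨a, ha⟩ : T), ⟨b, hb⟩⁆).1 ?_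
  rw [← QuotientGroup.mk'_apply, map_commutatorElement, commutatorElement_eq_one_iff_mul_comm]
  open scoped IsMulCommutative in exact mul_comm _ _

/-- the configuration. -/
structure Cf (u : G) (K S : Subgroup G) : Prop where
  na : ¬ IsMulCommutative G
  h8 : ¬ L G 8
  uo : orderOf u = 2
  kf : Kf K
  Kc : K ≤ 𝐂₁(u)
  Kn : 𝐂₁(u) ≤ 𝐍(K)
  uK : u ∉ K
  syl : SylIn 2 S ⊤
  sylT : SylIn 2 (S ⊓ 𝐂₁(u)) 𝐂₁(u)
  max : ∀ r, orderOf r = 2 → K ≤ 𝐂₁(r) → ∀ R ≤ 𝐂₁(r), IsPGroup 2 R → #|R| ≤ #|S ⊓ 𝐂₁(u)|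

namespace Cf

variable {u : G} {K S : Subgroup G} (h : Cf u K S)
include h

local notation "T" => S ⊓ 𝐂₁(u)

theorem uu : u * u = 1 := sq_of_ord2 h.uo

theorem ui : u⁻¹ = u := inv_eq_of_mul_eq_one_right h.uu

theorem umul (g : G) : u * (u * g) = g := by rw [← mul_assoc, h.uu, one_mul]

theorem uT : u ∈ T := h.sylT.le_of_normalizes (isPGroup_zpowers (k := 1) (by rw [pow_one, sq, h.uu]))
  (zpowers_le.2 (mem_c1.2 (by group))) (zpowers_le.2 (centralizer_le_normalizer _ fun _ hx =>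
    mem_centralizer_singleton_iff.1 hx.2)) (mem_zpowers u)

theorem no7 {N : Subgroup G} (hN : N ≠ ⊤) : ¬ L N 7 := fun l => h.h8 (l.succ_of_ne hN)

theorem sylD : SylIn 2 (T ⊓ K) K := h.sylT.inf_normal_of_le h.Kn h.Kc

theorem four_dvd : 4 ∣ #|T ⊓ K| := by
  have : 2 ^ 2 ∣ Nat.card K := by
    by_contra k
    exact h.kf.ns (solvable_of_not_four_dvd k)
  rw [h.sylD.card_eq_pow_factorization]
  exact pow_dvd_pow 2 ((Nat.prime_two.pow_dvd_iff_le_factorization Nat.card_pos.ne').1 this)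

theorem idx : K.relIndex T = 2 ∨ (K.relIndex T = 4 ∧ #|T ⊓ K| = 4) := by
  obtain ⟨a, ha⟩ := h.sylT.pgroup.exists_card_eq
  obtain ⟨j, -, hj⟩ := (Nat.dvd_prime_pow Nat.prime_two).1 (ha ▸ relIndex_dvd_card K T)
  have k := fun m (l : L K m) => L_of_relIndex inf_le_right h.Kn h.Kc l hj.symm.dvd
  have h7 := h.no7 (c1_ne_top h.na h.uo)
  have j2 : j ≤ 2 := by
    by_contra! l
    exact h7 ((k 4 (L.four h.kf.ns)).anti (by omega))
  interval_cases j
  · exact absurd (relIndex_eq_one.1 hj h.uT) h.uK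
  · exact Or.inl hj
  · refine Or.inr ⟨hj, ?_⟩
    obtain ⟨b, hb⟩ := h.sylD.pgroup.exists_card_eq
    have b1 : ¬ 2 ^ 3 ∣ 2 ^ b := fun l =>
      h7 (k 5 (h.kf.five ((hb ▸ l).trans (card_dvd_of_le inf_le_right))))
    have b2 : 2 ^ 2 ∣ 2 ^ b := hb ▸ h.four_dvd
    rw [Nat.pow_dvd_pow_iff_le_right (by norm_num)] at b1 b2
    rw [hb, show b = 2 by omega]; rfl

theorem card_T : #|T ⊓ K| * K.relIndex T = #|T| := by
  rw [inf_comm _ K]; exact CL.card_inf_mul_relIndex K T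

theorem eight_dvd : 2 ^ 3 ∣ #|T| := by
  rw [← h.card_T]
  rcases h.idx with e | ⟨e, -⟩ <;> rw [e]
  · exact Nat.mul_dvd_mul h.four_dvd dvd_rfl
  · exact Nat.mul_dvd_mul h.four_dvd (by decide : 2 ∣ 4)

theorem comm_le : ⁅T, T⁆ ≤ T ⊓ K :=
  le_inf (commutator_le_left_of_normalizes le_normalizer) (comm_le_of_four (inf_le_right.trans h.Kn)
    (by rcases h.idx with e | ⟨e, -⟩ <;> rw [e]; decide))

theorem big {R : Subgroup G} (hR : IsPGroup 2 R) (hlt : #|T| < #|R|) {g : G} :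
    ¬ R ≤ 𝐂₁(g * u * g⁻¹) := fun k => by
  rw [← cj_centralizer_singleton] at k
  have := (h.sylT.cj g).card_le hR k
  rw [card_cj] at this
  omega

theorem four_of_card (hc : ∀ a ∈ T ⊓ K, ∀ b ∈ T ⊓ K, a * b = b * a) : ∀ x ∈ T ⊓ K, x * x = 1 := by
  rcases h.kf.syl _ h.sylD with k | ⟨n, hn, ⟨c⟩⟩
  · exact k
  · have := hc _ (c.s_mem 0) _ (c.r_mem 1)
    rw [c.r_comm_s_iff, mul_one] at this
    have := (two_pow_eq_zero_iff (n := n) 1).1 (by simpa using this)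
    omega

theorem four (hc : #|T ⊓ K| = 4) : Four (T ⊓ K) := by
  refine ⟨hc, h.four_of_card fun a ha b hb => ?_⟩
  have := IsPGroup.isMulCommutative_of_card_eq_prime_sq (p := 2) (G := ↥(T ⊓ K)) hc
  exact congrArg Subtype.val (by open scoped IsMulCommutative in
    exact mul_comm (⟨a, ha⟩ : ↥(T ⊓ K)) ⟨b, hb⟩)

theorem loud_four (hV : Four (T ⊓ K)) :
    ∃ ρ ∈ K, ρ ∈ 𝐍(T ⊓ K) ∧ Odd (orderOf ρ) ∧ ρ ∉ 𝐂(T ⊓ K) := by
  have h4 : IsKleinFour ↥(T ⊓ K) := by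
    have : Nontrivial ↥(T ⊓ K) := (nontrivial_iff_ne_bot _).2 hV.ne_bot
    exact ⟨hV.card, (Monoid.exponent_eq_prime_iff Nat.prime_two).2 fun g hg =>
      ord2 hg (Subtype.ext (hV.sq g g.2))⟩
  obtain ⟨c⟩ := coord_of_four h4
  exact loud h.kf.perf h.sylD c le_rfl h4

/-- an isolated involution of `C(u)` centralizes the component. -/
theorem le_c1_of_iso {r : G} (hr : r ∈ T) (ho : orderOf r = 2)
    (hi : ∀ g ∈ 𝐂₁(u), g * r * g⁻¹ ∈ T → g * r * g⁻¹ = r) : K ≤ 𝐂₁(r) := by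
  have i := CL.Iso.isolatedInvolution_of_sylow h.sylT.toSylow (x := ⟨r, hr.2⟩) (by
    rwa [← orderOf_coe]) fun g hg => Subtype.ext (hi g g.2 hg)
  let O := (oddCore 𝐂₁(u)).map (𝐂₁(u)).subtype
  have hO : O ⊓ K ≤ 𝐂(K) := h.kf.cen _ inf_le_right (le_normalizer_inf (h.Kc.trans
    (le_normalizer_of_cj_le fun x hx => by
      rintro _ ⟨_, ⟨y, hy, rfl⟩, rfl⟩
      exact ⟨_, (inferInstance : (oddCore 𝐂₁(u)).Normal).conj_mem y hy ⟨x, hx⟩, rfl⟩)) le_normalizer)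
    (CL.isSolvable_of_le inf_le_left (by
      have := CL.isSolvable_of_odd _ (Nat.coprime_two_right.1 (CL.coprime_card_pPrimeCore 2 𝐂₁(u)))
      exact CL.isSolvable_map _ _))
  have k : ⁅⁅zpowers r, K⁆, K⁆ = ⊥ := commutator_eq_bot_iff_le_centralizer.2
    (commutator_le.2 fun a ha b hb => by
      rcases (mem_zpowers_two (sq_of_ord2 ho)).1 ha with rfl | rfl
      · simp
      · exact hO ⟨⟨_, CL.BS.zstar i ⟨b, h.Kc hb⟩, rfl⟩,
          K.mul_mem (conj_mem_of_normalizes h.Kn hr.2 hb) (K.inv_mem hb)⟩)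
  have := commutator_commutator_eq_bot_of_rotate (H₁ := K) (H₂ := K) (H₃ := zpowers r)
    (by rwa [commutator_comm K (zpowers r)]) k
  rw [h.kf.perf, commutator_eq_bot_iff_le_centralizer] at this
  exact fun x hx => mem_centralizer_singleton_iff.2 (this hx r (mem_zpowers r)).symm

/-- the normalizer of `⟨u⟩ V` centralizes `u` when it is large. -/
theorem ne_lemma {V R : Subgroup G} (hV : Four V) (hVK : V ≤ K) {ρ : G} (hρ : ρ ∈ K) (h1 : ρ ∈ 𝐍(V))
    (h2 : Odd (orderOf ρ)) (h3 : ρ ∉ 𝐂(V)) (nc : ∀ g : G, g * u * g⁻¹ ∉ V)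
    (hR : R ≤ 𝐍(V) ⊓ 𝐂₁(u)) (h16 : 2 ^ 4 ∣ #|R|) : 𝐍(zpowers u ⊔ V) ≤ 𝐂₁(u) := fun g hg => by
  by_contra hg'
  have hle : 𝐍(V) ⊓ 𝐂₁(u) ≤ 𝐍(zpowers u ⊔ V) ⊓ 𝐂₁(u) := le_inf (le_normalizer_sup
    (fun x hx => mem_normalizer_iff_cj.2 (by rw [cj_zpowers, mem_c1.1 hx.2])) inf_le_left) inf_le_right
  have hρ' := hle ⟨h1, h.Kc hρ⟩
  have i4 := relIndex_four hV h.uu (hVK.trans h.Kc) le_rfl hρ' h1 h2 h3 nc hg hg'
  have hn : u ∈ 𝐍(V) := centralizer_le_normalizer _ fun v hv =>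
    mem_centralizer_singleton_iff.1 (h.Kc (hVK hv))
  have hE : IsPGroup 2 ↥(zpowers u ⊔ V) := isPGroup_sup_of_normalizes
    (isPGroup_zpowers (k := 1) (by rw [pow_one, sq, h.uu])) hV.isPGroup (zpowers_le.2 hn)
  have h8 : 2 ^ 3 ∣ #|zpowers u ⊔ V| := pow_succ_dvd_of_lt hE (lt_of_le_of_ne le_sup_right fun e =>
    h.uK (hVK (e.ge (mem_sup_left (mem_zpowers u))))) (a := 2) hV.card.symm.dvd
  obtain ⟨k, hk⟩ := h16.trans (card_dvd_of_le (hR.trans hle))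
  have e := CL.card_inf_mul_relIndex 𝐂₁(u) 𝐍(zpowers u ⊔ V)
  rw [i4, inf_comm, hk] at e
  have hk1 : 1 < k := by
    by_contra! l
    have k0 : k ≠ 0 := by rintro rfl; exact Nat.card_pos.ne' hk
    obtain rfl : k = 1 := by omega
    have := orderOf_dvd_natCard _ hρ'
    rw [hk, mul_one] at this
    have := (Nat.coprime_two_right.2 h2).pow_right 4 |>.eq_one_of_dvd this
    exact h3 (orderOf_eq_one_iff.1 this ▸ one_mem _)
  have l := L.of_solvable_mul (solv_norm h.na h.h8 hE h8) e.symm hk1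
  rw [show (4 : ℕ) = 2 ^ 2 by norm_num, ArithmeticFunction.cardFactors_apply_prime_pow Nat.prime_two] at l
  exact h.no7 (norm_ne_top h.na hE fun e => by rw [e, card_bot] at h8; exact absurd h8 (by decide)) l

end Cf

end CL.Len
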