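import Mathlib
import Cfsg.Agent.INV.Len.Cf

/-!
# The case of an abelian Sylow subgroup of the centralizer
-/

set_option linter.unusedSectionVars false
set_option maxHeartbeats 400000

open Subgroup Cfsg CL.MSS CL.BG CL.JC CL.Dih CL.Z2
open scoped commutatorElement

namespace CL.Len

variable {G : Type*} [Group G] [Finite G] [IsSimpleGroup G]

namespace Cf

variable {u : G} {K S : Subgroup G} (h : Cf u K S)
include h

local notation "T" => S ⊓ 𝐂₁(u)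

theorem exists_s (hlt : T < S) : ∃ s ∈ S ⊓ 𝐍(T), s ∉ 𝐂₁(u) := by
  obtain ⟨s, hs, hs'⟩ := SetLike.exists_of_lt (lt_inf_normalizer_of_lt h.syl.pgroup hlt)
  exact ⟨s, hs, fun k => hs' ⟨hs.1, k⟩⟩

theorem sylY : SylIn 2 T (𝐍(T) ⊓ 𝐂₁(u)) :=
  h.sylT.of_le (le_inf le_normalizer inf_le_right) inf_le_right

theorem two_dvd_m (hlt : T < S) : 2 ∣ (𝐂₁(u)).relIndex 𝐍(T) := by
  by_contra k
  obtain ⟨s, hs, hs'⟩ := h.exists_s hlt
  have := sylIn_of_not_dvd_relIndex h.sylT.pgroup le_normalizer (by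
    rw [← relIndex_mul_relIndex T (𝐍(T) ⊓ 𝐂₁(u)) 𝐍(T) h.sylY.le inf_le_left, inf_relIndex_left]
    exact Nat.prime_two.not_dvd_mul h.sylY.not_dvd_relIndex k)
  exact hs' ((this.max _ (h.syl.pgroup.to_le inf_le_left) (le_inf inf_le_left le_normalizer)
    inf_le_right).le hs).2

theorem burnside (hc : ∀ a ∈ T, ∀ b ∈ T, a * b = b * a) {r g : G} (hr : r ∈ T) (hg : g ∈ 𝐂₁(u))
    (hg' : g * r * g⁻¹ ∈ T) : ∃ n ∈ 𝐍(T) ⊓ 𝐂₁(u), n * r * n⁻¹ = g * r * g⁻¹ := by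
  have a : SylIn 2 T (𝐂₁(u) ⊓ 𝐂₁(g * r * g⁻¹)) := h.sylT.inf_of_le fun x hx =>
    mem_centralizer_singleton_iff.2 (hc x hx _ hg')
  have b : SylIn 2 (g •ᶜ T) (𝐂₁(u) ⊓ 𝐂₁(g * r * g⁻¹)) := (h.sylT.cj_of_mem hg).inf_of_le (by
    rw [← cj_centralizer_singleton]
    exact cj_mono g fun x hx => mem_centralizer_singleton_iff.2 (hc x hx _ hr))
  obtain ⟨x, hx, e⟩ := b.exists_conj a
  refine ⟨x * g, ⟨mem_normalizer_iff_cj.2 (by rw [cj_mul, e]), mul_mem hx.1 hg⟩, ?_⟩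
  rw [← mem_c1.1 hx.2]; group

theorem one_lt_k (hc : ∀ a ∈ T, ∀ b ∈ T, a * b = b * a) : 1 < (T).relIndex (𝐍(T) ⊓ 𝐂₁(u)) := by
  by_contra! l
  have k0 : (T).relIndex (𝐍(T) ⊓ 𝐂₁(u)) ≠ 0 := index_ne_zero_of_finite
  have k := relIndex_eq_one.1 (show (T).relIndex (𝐍(T) ⊓ 𝐂₁(u)) = 1 by omega)
  refine h.kf.ns (CL.isSolvable_of_le h.Kc (CL.GW.isSolvable_of_hasNPC
    (CL.hasNPC_of_normalizer_le_centralizer h.sylT.toSylow fun g hg x hx => Subtype.ext ?_)))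
  refine hc x hx g (k ⟨mem_normalizer_of_cj_le (cj_le_iff_forall.2 fun y hy => ?_), g.2⟩)
  exact (mem_normalizer_iff.1 hg ⟨y, hy.2⟩).1 hy

theorem m_ne_two (hc : ∀ a ∈ T, ∀ b ∈ T, a * b = b * a) (hlt : T < S) :
    (𝐂₁(u)).relIndex 𝐍(T) ≠ 2 := fun hm => by
  obtain ⟨s, hs, hs'⟩ := h.exists_s hlt
  have v : s * u * s⁻¹ ∈ T := conj_mem_of_normalizes le_rfl hs.2 h.uT
  have rT : u * (s * u * s⁻¹) ∈ T := mul_mem h.uT v
  have ro : orderOf (u * (s * u * s⁻¹)) = 2 := ord2 (fun e => hs' (mem_c1.2 (by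
    rw [← inv_eq_of_mul_eq_one_right e, h.ui]))) (by
      rw [mul_assoc, ← mul_assoc _ u, hc _ v _ h.uT, mul_assoc, h.umul, conj_sq h.uu])
  have ss := mem_c1.1 (mul_mem_of_two hm hs.2 hs.2 hs' hs')
  have sr : s ∈ 𝐂₁(u * (s * u * s⁻¹)) := mem_c1.2 (by
    rw [show s * (u * (s * u * s⁻¹)) * s⁻¹ = s * u * s⁻¹ * (s * s * u * (s * s)⁻¹) by group, ss,
      hc _ v _ h.uT])
  have k := h.le_c1_of_iso rT ro fun g hg hg' => by
    obtain ⟨n, hn, e⟩ := h.burnside hc rT hg hg'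
    have a : s⁻¹ * (n * s) ∈ 𝐂₁(u) := mul_mem_of_two hm (inv_mem hs.2) (mul_mem hn.1 hs.2)
      (by simpa using hs') (by rwa [(𝐂₁(u)).mul_mem_cancel_left hn.2])
    rw [← e, show n * (u * (s * u * s⁻¹)) * n⁻¹ =
      n * u * n⁻¹ * (s * (s⁻¹ * (n * s) * u * (s⁻¹ * (n * s))⁻¹) * s⁻¹) by group, mem_c1.1 a,
      mem_c1.1 hn.2]
  have := h.max _ ro k (S ⊓ 𝐂₁(u * (s * u * s⁻¹))) inf_le_right (h.syl.pgroup.to_le inf_le_left)
  refine absurd (card_lt_of_lt (lt_of_le_of_ne (le_inf inf_le_left fun x hx =>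
    mem_centralizer_singleton_iff.2 (hc x hx _ rT)) fun e => hs' (e.ge ⟨hs.1, sr⟩).2)) (not_lt.2 this)

theorem normT_ne : 𝐍(T) ≠ ⊤ :=
  norm_ne_top h.na h.sylT.pgroup fun e => ne_of_ord2 h.uo (by simpa [e] using h.uT)

theorem card_eight (hc : ∀ a ∈ T, ∀ b ∈ T, a * b = b * a) (hlt : T < S) : #|T| = 8 := by
  obtain ⟨a, ha⟩ := h.sylT.pgroup.exists_card_eq
  have a3 : 3 ≤ a := (Nat.pow_dvd_pow_iff_le_right (by norm_num)).1 (ha ▸ h.eight_dvd)
  have e := CL.card_inf_mul_relIndex 𝐂₁(u) 𝐍(T)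
  rw [inf_comm, ← CL.card_mul_relIndex_of_le h.sylY.le, ha] at e
  have l := L.of_solvable_mul (solv_norm h.na h.h8 h.sylT.pgroup h.eight_dvd) e.symm (h.one_lt_k hc)
  obtain ⟨m, hm⟩ := h.two_dvd_m hlt
  have m0 : m ≠ 0 := by
    rintro rfl
    exact index_ne_zero_of_finite hm
  have m1 : m ≠ 1 := by
    rintro rfl
    exact h.m_ne_two hc hlt hm
  rw [hm, ArithmeticFunction.cardFactors_mul two_ne_zero m0,
    ArithmeticFunction.cardFactors_apply_prime Nat.prime_two] at l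
  have := one_le_cardFactors (k := m) (by omega)
  by_contra k
  have a4 : a ≠ 3 := by rintro rfl; exact k ha
  exact h.no7 h.normT_ne (l.anti (by omega))

theorem nc_of_split (hc : ∀ a ∈ T, ∀ b ∈ T, a * b = b * a) (hlt : T < S)
    (sp : ∀ x ∈ T, x ∈ K ∨ u * x ∈ K) (hV : Four (T ⊓ K)) (g : G) : g * u * g⁻¹ ∉ K := fun hg => by
  have P : ∀ v ∈ K, orderOf v = 2 → ∃ x : G, x * u * x⁻¹ = v := fun v hv ho => by
    obtain ⟨k, -, e⟩ := h.kf.one _ hg v hv (ord2 (conj_ne_one (ne_of_ord2 h.uo) g) (conj_sq h.uu g)) ho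
    exact ⟨k * g, by rw [← e]; group⟩
  have sq : ∀ x ∈ T, x * x = 1 := fun x hx => by
    rcases sp x hx with k | k
    · exact hV.sq x ⟨hx, k⟩
    · have := hV.sq _ ⟨mul_mem h.uT hx, k⟩
      rwa [mul_assoc, ← mul_assoc x, hc x hx u h.uT, mul_assoc, h.umul] at this
  obtain ⟨s, hs, hs'⟩ := h.exists_s hlt
  obtain ⟨w, hw, wo⟩ := exists_inv_of_ne_bot (h.sylT.pgroup.to_le inf_le_left)
    (inf_centralizer_ne_bot (P := S ⊓ 𝐍(T)) (h.syl.pgroup.to_le inf_le_left) h.sylT.pgroup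
      inf_le_right fun e => ne_of_ord2 h.uo (by simpa [e] using h.uT))
  have nw : ∀ x : G, x * u * x⁻¹ ≠ w := fun x e => h.big (h.syl.pgroup.to_le inf_le_left)
    (card_lt_of_lt (lt_inf_normalizer_of_lt h.syl.pgroup hlt)) (g := x) fun y hy =>
      e ▸ mem_centralizer_singleton_iff.2 (hw.2 y hy)
  have w1 : u * w ∈ K := (sp w hw.1).resolve_left fun k => let ⟨x, e⟩ := P w k wo; nw x e
  have Q : ∀ x : G, x * u * x⁻¹ ∈ T → x * u * x⁻¹ = u ∨ x * u * x⁻¹ ∈ K := fun x hx => by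
    refine (sp _ hx).symm.imp_left fun k => ?_
    by_contra e
    obtain ⟨y, hy, e'⟩ := h.kf.one _ k _ w1 (ord2 (fun l => e (by
      rw [← inv_eq_of_mul_eq_one_right l, h.ui])) (sq _ (mul_mem h.uT hx))) (ord2 (fun l => nw 1 (by
        rw [← inv_eq_of_mul_eq_one_right l, h.ui]; simp)) (sq _ (mul_mem h.uT hw.1)))
    refine nw (y * x) (mul_left_cancel (a := u) ?_)
    rw [← e']
    nth_rewrite 1 [← mem_c1.1 (h.Kc hy)]
    group
  have R : ∀ v ∈ T ⊓ K, s * v * s⁻¹ = u ∨ s * v * s⁻¹ ∈ K := fun v hv => by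
    by_cases e : v = 1
    · exact Or.inr (by simp [e])
    obtain ⟨x, rfl⟩ := P v hv.2 (ord2 e (sq v hv.1))
    have := Q (s * x) (by
      have := conj_mem_of_normalizes le_rfl hs.2 hv.1
      rwa [show s * (x * u * x⁻¹) * s⁻¹ = s * x * u * (s * x)⁻¹ by group] at this)
    rwa [show s * x * u * (s * x)⁻¹ = s * (x * u * x⁻¹) * s⁻¹ by group] at this
  have R' : ∀ v ∈ T ⊓ K, s * v * s⁻¹ ∈ K := fun v hv => (R v hv).resolve_left fun e => by
    obtain ⟨v', hv', hn⟩ : ∃ v' ∈ T ⊓ K, v' ∉ zpowers v := by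
      by_contra! l
      have := card_le_of_le (show T ⊓ K ≤ zpowers v from l)
      rw [hV.card, Nat.card_zpowers] at this
      have := Nat.le_of_dvd two_pos (orderOf_dvd_of_pow_eq_one (x := v) (by rw [_root_.sq, sq v hv.1]))
      omega
    have a := (R v' hv').resolve_left fun l => hn (by
      rw [show v' = v by simpa using l.trans e.symm]; exact mem_zpowers v)
    have b := (R _ (mul_mem hv hv')).resolve_left fun l => hn (by
      rw [show v' = 1 by simpa using l.trans e.symm]; exact one_mem _)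
    have := K.mul_mem b (K.inv_mem a)
    rw [show s * (v * v') * s⁻¹ * (s * v' * s⁻¹)⁻¹ = s * v * s⁻¹ by group, e] at this
    exact h.uK this
  have n : s •ᶜ (T ⊓ K) = T ⊓ K := cj_eq_of_le (cj_le_iff_forall.2 fun v hv =>
    ⟨conj_mem_of_normalizes le_rfl hs.2 hv.1, R' v hv⟩)
  have v := conj_mem_of_normalizes le_rfl hs.2 h.uT
  have : s * u * s⁻¹ ∈ T ⊓ K := ⟨v, (Q s v).resolve_left fun e => hs' (mem_c1.2 e)⟩
  rw [← n, conj_mem_cj_iff] at this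
  exact h.uK this.2

/-- **the abelian case.** -/
theorem abelian (hc : ∀ a ∈ T, ∀ b ∈ T, a * b = b * a) (hlt : T < S) : False := by
  have c8 := h.card_eight hc hlt
  have cT := h.card_T
  have i2 : K.relIndex T = 2 := h.idx.resolve_right fun k => by rw [k.1, k.2, c8] at cT; omega
  have hV : Four (T ⊓ K) := h.four (by rw [i2, c8] at cT; omega)
  have sp : ∀ x ∈ T, x ∈ K ∨ u * x ∈ K := fun x hx =>
    (em _).imp_right fun k => mul_mem_of_two i2 h.uT hx h.uK k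
  have nc := h.nc_of_split hc hlt sp hV
  have TV : T ≤ 𝐂(T ⊓ K) := fun x hx v hv => hc v hv.1 x hx
  have un : u ∈ 𝐍(T ⊓ K) := centralizer_le_normalizer _ (TV h.uT)
  have hE : zpowers u ⊔ T ⊓ K = T := le_antisymm (sup_le (zpowers_le.2 h.uT) inf_le_left) fun x hx =>
    (mem_sup_two h.uu un).2 ((sp x hx).imp (fun k => ⟨hx, k⟩) fun k => ⟨mul_mem h.uT hx, k⟩)
  obtain ⟨ρ, r1, r2, r3, r4⟩ := h.loud_four hV
  have rN : ρ ∈ 𝐍(T) := by
    have : 𝐍(T ⊓ K) ⊓ 𝐂₁(u) ≤ 𝐍(zpowers u ⊔ T ⊓ K) := le_normalizer_sup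
      (fun x hx => mem_normalizer_iff_cj.2 (by rw [cj_zpowers, mem_c1.1 hx.2])) inf_le_left
    rw [hE] at this
    exact this ⟨r2, h.Kc r1⟩
  -- elements of `T` coming from `K`
  have back : ∀ g : G, g •ᶜ (T ⊓ K) ≤ T → g ∈ 𝐍(T ⊓ K) := fun g hg =>
    mem_normalizer_of_cj_le (cj_le_iff_forall.2 fun v hv => by
      have a := cj_le_iff_forall.1 hg v hv
      refine ⟨a, (sp _ a).resolve_right fun k => ?_⟩
      obtain ⟨s, hs, hs'⟩ := h.exists_s hlt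
      have b := conj_mem_of_normalizes le_rfl hs.2 h.uT
      have b' := (sp _ b).resolve_left (nc s)
      by_cases e : u * (g * v * g⁻¹) = 1
      · refine nc g⁻¹ ?_
        rw [← h.ui, inv_eq_of_mul_eq_one_right e]
        simpa [mul_assoc] using hv.2
      obtain ⟨y, hy, e'⟩ := h.kf.one _ b' _ k (ord2 (fun l => hs' (mem_c1.2 (by
        rw [← inv_eq_of_mul_eq_one_right l, h.ui]))) (hV.sq _ ⟨mul_mem h.uT b, b'⟩))
        (ord2 e (hV.sq _ ⟨mul_mem h.uT a, k⟩))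
      have : y * (s * u * s⁻¹) * y⁻¹ = g * v * g⁻¹ := by
        refine mul_left_cancel (a := u) ?_
        rw [← e']
        nth_rewrite 1 [← mem_c1.1 (h.Kc hy)]
        group
      refine nc (g⁻¹ * y * s) ?_
      rw [show g⁻¹ * y * s * u * (g⁻¹ * y * s)⁻¹ = g⁻¹ * (y * (s * u * s⁻¹) * y⁻¹) * g by group, this]
      simpa [mul_assoc] using hv.2)
  have NV : 𝐍(T) ≤ 𝐍(T ⊓ K) := fun g hg => back g (cj_le_of_mem_normalizer inf_le_left hg)
  obtain ⟨s, hs, hs'⟩ := h.exists_s hlt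
  have ncV : ∀ g : G, g * u * g⁻¹ ∉ T ⊓ K := fun g k => nc g k.2
  have m4 := relIndex_four hV h.uu (inf_le_left.trans inf_le_right) (N := 𝐍(T)) (by rw [hE])
    ⟨rN, h.Kc r1⟩ r2 r3 r4 ncV hs.2 hs'
  set C := 𝐍(T) ⊓ 𝐂(T ⊓ K) with hC
  have CN : 𝐍(T) ≤ 𝐍(C) := le_normalizer_inf le_normalizer (le_normalizer_centralizer NV)
  have TC : T ≤ C := le_inf le_normalizer TV
  obtain ⟨x, hx, hx'⟩ : ∃ x ∈ C, x ∉ 𝐂₁(u) := by
    by_contra! k
    have a := hV.relIndex_dvd NV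
    rw [← inf_relIndex_left, ← relIndex_mul_relIndex C (𝐍(T) ⊓ 𝐂₁(u)) 𝐍(T) (le_inf inf_le_left k)
      inf_le_left, inf_relIndex_left, m4] at a
    exact absurd ((Dvd.intro_left _ rfl).trans a) (by decide)
  have key : ∀ y ∈ 𝐍(T), u * (y * u * y⁻¹) ∈ T ⊓ K := fun y hy =>
    have := conj_mem_of_normalizes le_rfl hy h.uT
    ⟨mul_mem h.uT this, (sp _ this).resolve_left (nc y)⟩
  have c4 : (𝐂₁(u)).relIndex C = 4 := by
    rw [← m4, relIndex_c1, relIndex_c1]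
    congr 1
    refine Set.Subset.antisymm (fun _ ⟨g, a, b⟩ => ⟨g, a.1, b⟩) ?_
    rintro _ ⟨g, hg, rfl⟩
    by_cases e : u * (g * u * g⁻¹) = 1
    · exact ⟨1, one_mem _, by rw [← inv_eq_of_mul_eq_one_right e, h.ui]; simp⟩
    obtain ⟨k, hk, e'⟩ := four_trans hV (H := 𝐍(T) ⊓ 𝐂₁(u)) ⟨rN, h.Kc r1⟩ r2 r3 r4 (key x hx.1)
      (fun l => hx' (mem_c1.2 (by rw [← inv_eq_of_mul_eq_one_right l, h.ui]))) (key g hg) e
    refine ⟨k * x * k⁻¹, conj_mem_of_normalizes CN hk.1 hx, mul_left_cancel (a := u) ?_⟩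
    rw [← e', show k * x * k⁻¹ * u * (k * x * k⁻¹)⁻¹ = k * x * (k⁻¹ * u * k⁻¹⁻¹) * x⁻¹ * k⁻¹ by group,
      mem_c1.1 (inv_mem hk.2)]
    nth_rewrite 1 [← mem_c1.1 hk.2]
    group
  have CltN : C < 𝐍(T) := lt_of_le_of_ne inf_le_left fun e => r4 (e.ge rN).2
  have sN := solv_norm h.na h.h8 h.sylT.pgroup h.eight_dvd
  have e1 := CL.card_inf_mul_relIndex 𝐂₁(u) C
  have CT : 𝐂₁(u) ⊓ C = T := by
    have le : T ≤ 𝐂₁(u) ⊓ C := le_inf inf_le_right TC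
    by_contra k
    have a : (T).relIndex (𝐂₁(u) ⊓ C) ≠ 1 := fun l => k (le_antisymm (relIndex_eq_one.1 l) le)
    have b : (T).relIndex (𝐂₁(u) ⊓ C) ≠ 0 := index_ne_zero_of_finite
    rw [c4, ← CL.card_mul_relIndex_of_le le, c8] at e1
    have l := L.of_solvable_mul (CL.isSolvable_of_le inf_le_left sN) (a := 3) e1.symm (by omega)
    rw [show (4 : ℕ) = 2 ^ 2 by norm_num, ArithmeticFunction.cardFactors_apply_prime_pow Nat.prime_two] at l
    exact h.no7 h.normT_ne (l.of_lt CltN)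
  rw [CT, c8, c4] at e1
  have pC : IsPGroup 2 C := IsPGroup.of_card (n := 5) e1.symm
  have l6 : L 𝐍(T) 6 := (L.of_pow_dvd Nat.prime_two (n := 5) e1.dvd).of_lt CltN
  have mx : ∀ M, 𝐍(T) ≤ M → M ≠ ⊤ → M ≤ 𝐍(T) := fun M a b => by
    by_contra k
    exact h.no7 b (l6.of_lt (lt_of_le_of_ne a fun e => k e.ge))
  have sC : SylIn 2 C ⊤ := by
    refine SylIn.of_normalizer_le (K := 𝐍(T)) (sylIn_of_not_dvd_relIndex pC inf_le_left fun k => ?_) le_top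
      (inf_le_right.trans (mx _ CN (norm_ne_top h.na pC fun e => by rw [e, card_bot] at e1; omega)))
    have a := CL.card_mul_relIndex_of_le CltN.le
    have b := CL.card_inf_mul_relIndex 𝐂₁(u) 𝐍(T)
    rw [inf_comm, ← CL.card_mul_relIndex_of_le h.sylY.le, c8, m4, ← a, ← e1] at b
    exact h.sylY.not_dvd_relIndex (by omega)
  have sqV : ∀ y ∈ C, y * y ∈ T ⊓ K := fun y hy => by
    have a := key y hy.1
    have a1 : y * u * y⁻¹ = u * (u * (y * u * y⁻¹)) := (h.umul _).symm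
    generalize u * (y * u * y⁻¹) = v at a a1
    have a2 : y * v * y⁻¹ = v := by rw [← hy.2 v a]; group
    have b : y * y ∈ T := CT.le ⟨mem_c1.2 (by
      rw [show y * y * u * (y * y)⁻¹ = y * (y * u * y⁻¹) * y⁻¹ by group, a1,
        show y * (u * v) * y⁻¹ = y * u * y⁻¹ * (y * v * y⁻¹) by group, a1, a2, mul_assoc, hV.sq v a,
        mul_one]), mul_mem hy hy⟩
    refine ⟨b, (sp _ b).elim id fun k => ?_⟩
    have a3 := hy.2 _ ⟨mul_mem h.uT b, k⟩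
    have a4 : y ∈ T := CT.le ⟨mem_centralizer_singleton_iff.2 (mul_right_cancel (b := y * y) (by
      rw [mul_assoc, ← a3]; group)), hy⟩
    rcases sp y a4 with l | l
    · exact mul_mem l l
    · have := mul_mem l l
      rwa [mul_assoc, ← mul_assoc y, hc y a4 u h.uT, mul_assoc, h.umul] at this
  refine h.uK (CL.Len8.transfer_coset (M := T ⊓ K) (no_two h.na) sC (fun a ha b hb => ?_) (TC h.uT) h.uu
    fun g hg => ?_).2
  · have := mul_mem (mul_mem (sqV _ (mul_mem ha hb)) (conj_mem_of_normalizes NV (inv_mem hb.1)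
      (sqV _ (inv_mem ha)))) (sqV _ (inv_mem hb))
    rwa [show a * b * (a * b) * (b⁻¹ * (a⁻¹ * a⁻¹) * b⁻¹⁻¹) * (b⁻¹ * b⁻¹) = a * b * a⁻¹ * b⁻¹ by group]
      at this
  · have a := h.sylT.cj g
    rw [cj_centralizer_singleton] at a
    obtain ⟨y, hy, e⟩ := a.exists_conj_le hV.isPGroup fun v hv =>
      mem_centralizer_singleton_iff.2 (hg.2 v hv)
    have b := mx _ NV (norm_ne_top h.na hV.isPGroup hV.ne_bot) (back (g⁻¹ * y) (by
      rw [cj_mul, ← le_cj_iff]; exact e))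
    have := key _ (inv_mem b)
    rwa [show (g⁻¹ * y)⁻¹ * u * (g⁻¹ * y)⁻¹⁻¹ = y⁻¹ * (g * u * g⁻¹) * y⁻¹⁻¹ by group,
      mem_c1.1 (inv_mem hy)] at this

end Cf

end CL.Len
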