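import Mathlib
import Cfsg.Agent.INV.Len.Ab
import Cfsg.Agent.INV.DQRecog

/-!
# The case of a nonabelian Sylow subgroup of the centralizer
-/

set_option linter.unusedSectionVars false
set_option maxHeartbeats 400000

open Subgroup Cfsg CL.MSS CL.BG CL.JC CL.Dih CL.Z2
open scoped commutatorElement

namespace CL.Len

variable {G : Type*} [Group G]

theorem cent_of_two {V : Subgroup G} (hV : Four V) {g v w : G} (hv : v ∈ V) (hv1 : v ≠ 1) (hw : w ∈ V)
    (hw1 : w ≠ 1) (hne : v ≠ w) (h1 : g * v * g⁻¹ = v) (h2 : g * w * g⁻¹ = w) : g ∈ 𝐂(V) := by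
  intro x hx
  rw [eq_comm, ← mul_inv_eq_iff_eq_mul]
  by_cases a : x = 1
  · simp [a]
  by_cases b : v = x
  · rwa [← b]
  by_cases c : w = x
  · rwa [← c]
  rw [hV.eq_mul_of_ne hv hw hx hv1 hw1 a hne b c,
    show g * (v * w) * g⁻¹ = g * v * g⁻¹ * (g * w * g⁻¹) by group, h1, h2]

variable [Finite G] [IsSimpleGroup G]

namespace Cf

variable {u : G} {K S : Subgroup G} (h : Cf u K S)
include h

local notation "T" => S ⊓ 𝐂₁(u)

theorem mv {V : Subgroup G} (hn : 𝐍(zpowers u ⊔ V) ≤ 𝐂₁(u)) (hVK : V ≤ K) {g : G} (hg : g ∈ 𝐍(V))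
    (hg' : u * (g * u * g⁻¹) ∈ V) : g ∈ 𝐂₁(u) := by
  refine hn (mem_normalizer_of_cj_le ?_)
  rw [cj_sup, cj_zpowers, cj_eq_of_mem_normalizer hg]
  exact sup_le (zpowers_le.2 ((mem_sup_two h.uu (centralizer_le_normalizer _ fun v hv =>
    mem_centralizer_singleton_iff.1 (h.Kc (hVK hv)))).2 (Or.inr hg'))) le_sup_right

theorem exists_w (hc : ⁅T, T⁆ ≠ ⊥) : ∃ w ∈ ⁅T, T⁆, orderOf w = 2 ∧ S ⊓ 𝐍(T) ≤ 𝐂₁(w) := by
  have p := h.sylD.pgroup.to_le h.comm_le
  obtain ⟨w, hw, wo⟩ := exists_inv_of_ne_bot (p.to_le inf_le_left)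
    (inf_centralizer_ne_bot (P := S ⊓ 𝐍(T)) (h.syl.pgroup.to_le inf_le_left) p
      (le_normalizer_commutator inf_le_right inf_le_right) hc)
  exact ⟨w, hw.1, wo, fun y hy => mem_centralizer_singleton_iff.2 (hw.2 y hy)⟩

theorem nc (hc : ⁅T, T⁆ ≠ ⊥) (hlt : T < S) (g : G) : g * u * g⁻¹ ∉ K := fun hg => by
  obtain ⟨w, hw, wo, hw'⟩ := h.exists_w hc
  obtain ⟨k, -, e⟩ := h.kf.one _ hg w (h.comm_le hw).2
    (ord2 (conj_ne_one (ne_of_ord2 h.uo) g) (conj_sq h.uu g)) wo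
  refine h.big (h.syl.pgroup.to_le inf_le_left)
    (card_lt_of_lt (lt_inf_normalizer_of_lt h.syl.pgroup hlt)) (g := k * g) ?_
  rwa [show k * g * u * (k * g)⁻¹ = k * (g * u * g⁻¹) * k⁻¹ by group, e]

theorem le_c1_conj {g : G} (hg : g ∈ 𝐍(T)) : T ≤ 𝐂₁(g * u * g⁻¹) := by
  rw [← cj_centralizer_singleton, ← cj_eq_of_mem_normalizer hg]
  exact cj_mono g inf_le_right

theorem key (hc : ⁅T, T⁆ ≠ ⊥) (hlt : T < S) (hz : ∀ w ∈ T, T ≤ 𝐂₁(w) → w ∈ T ⊓ K ∨ u * w ∈ T ⊓ K)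
    {g : G} (hg : g ∈ 𝐍(T)) : u * (g * u * g⁻¹) ∈ T ⊓ K :=
  (hz _ (conj_mem_of_normalizes le_rfl hg h.uT) (h.le_c1_conj hg)).resolve_left
    fun k => h.nc hc hlt g k.2

theorem fus (hc : ⁅T, T⁆ ≠ ⊥) (hlt : T < S) (hz : ∀ w ∈ T, T ≤ 𝐂₁(w) → w ∈ T ⊓ K ∨ u * w ∈ T ⊓ K)
    {d : G} (hd : d ∈ K) (hdd : d * d = 1) : IsConj u (u * d) := by
  by_cases e : d = 1
  · rw [e, mul_one]
  obtain ⟨s, hs, hs'⟩ := h.exists_s hlt
  have a := h.key hc hlt hz hs.2
  obtain ⟨k, hk, e'⟩ := h.kf.one _ a.2 d hd (ord2 (fun l => hs' (mem_c1.2 (by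
    rw [← inv_eq_of_mul_eq_one_right l, h.ui]))) (by
      rw [mul_assoc, ← mul_assoc _ u, ← mem_centralizer_singleton_iff.1 (h.le_c1_conj hs.2 h.uT),
        mul_assoc, h.umul, conj_sq h.uu])) (ord2 e hdd)
  refine isConj_iff.2 ⟨k * s, ?_⟩
  rw [← e', show k * (u * (s * u * s⁻¹)) * k⁻¹ = k * u * k⁻¹ * (k * s * u * (k * s)⁻¹) by group,
    mem_c1.1 (h.Kc hk), h.umul]

theorem top (he : T = S) (hz : ∀ w ∈ T, T ≤ 𝐂₁(w) → w ∈ T ⊓ K ∨ u * w ∈ T ⊓ K)
    (hd : ∀ w ∈ T ⊓ K, T ≤ 𝐂₁(w) → w * w = 1 → w ∈ ⁅T, T⁆) : False :=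
  top_false (no_two h.na) (S := T) (he.symm ▸ h.syl) inf_le_left h.comm_le h.uT h.uu inf_le_right
    (fun k => h.uK k.2) hz hd

theorem na_two (hc : ⁅T, T⁆ ≠ ⊥) (i2 : K.relIndex T = 2) : False := by
  have sp : ∀ x ∈ T, x ∈ T ⊓ K ∨ u * x ∈ T ⊓ K := fun x hx =>
    (em (x ∈ K)).imp (fun k => ⟨hx, k⟩) fun k => ⟨mul_mem h.uT hx, mul_mem_of_two i2 h.uT hx h.uK k⟩
  obtain ⟨n, hn, ⟨c⟩⟩ := (h.kf.syl _ h.sylD).resolve_left fun k => hc (by
    have sq : ∀ x ∈ T, x * x = 1 := fun x hx => by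
      rcases sp x hx with l | l
      · exact k x l
      · have := k _ l
        rwa [mul_assoc, ← mul_assoc x, mem_centralizer_singleton_iff.1 hx.2, mul_assoc, h.umul] at this
    refine le_bot_iff.1 (commutator_le.2 fun a ha b hb => ?_)
    rw [mem_bot, commutatorElement_def, inv_eq_of_mul_eq_one_right (sq a ha),
      inv_eq_of_mul_eq_one_right (sq b hb), mul_assoc, sq _ (mul_mem ha hb)])
  rcases (inf_le_left : T ≤ S).eq_or_lt with he | hlt
  · refine h.top he (fun w hw _ => sp w hw) fun w hw hw' hww => ?_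
    rcases (c.mem_iff w).1 hw with ⟨i, rfl⟩ | ⟨i, rfl⟩
    · rw [c.r_mul_r, c.r_eq_one_iff, ← two_mul, two_mul_eq_zero_iff c.hn] at hww
      rcases hww with rfl | rfl
      · exact c.r_zero ▸ one_mem _
      · have := commutator_mem_commutator (c.r_mem (qq n)).1 (c.s_mem 0).1
        rwa [commutatorElement_def, c.r_conj_s, c.s_inv, c.s_mul_s, zero_add, sub_zero, two_qq hn] at this
    · have := (mem_centralizer_singleton_iff.1 (hw' (c.r_mem 1).1)).symm
      rw [c.r_comm_s_iff, mul_one] at this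
      have := (two_pow_eq_zero_iff (n := n) 1).1 (by simpa using this)
      omega
  have nc := h.nc hc hlt
  refine CL.Len8.Beta.false (S := S) (c := c) (z := u) ⟨h.syl, no_two h.na, hn,
    inf_le_left.trans inf_le_left, h.uT.1, h.uu, fun d hd => mem_centralizer_singleton_iff.1 hd.1.2,
    fun g hg k => sp g ⟨hg, mem_centralizer_singleton_iff.2 k⟩, fun g k => nc g k.2,
    fun d hd k => h.fus hc hlt (fun w hw _ => sp w hw) hd.2 k, fun g _ i e1 e2 e3 => ?_⟩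
  have hV := c.isSub_sub 2 i
  have k4 := hV.isKleinFour
  have f : Four (c.sub 2 i) := ⟨hV.card_two, fun w hw => by
    have := Monoid.pow_exponent_eq_one (⟨w, hw⟩ : c.sub 2 i)
    rw [k4.exponent_two, sq] at this
    exact congrArg Subtype.val this⟩
  have VK : c.sub 2 i ≤ K := hV.1.trans inf_le_right
  obtain ⟨ρ, r1, r2, r3, r4⟩ := loud h.kf.perf h.sylD c hV.1 k4
  have k := Coord.IsSub.card (c := c) (a := 2) hn (by rw [sq]; exact hV.normalizer)
  have un : u ∈ 𝐍(c.sub 2 i) := centralizer_le_normalizer _ fun v hv =>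
    mem_centralizer_singleton_iff.1 (h.Kc (VK hv))
  have ne := h.ne_lemma f VK r1 r2 r3 r4 (fun g k => nc g (VK k)) (R := 𝐍(c.sub 2 i) ⊓ T)
    (inf_le_inf_left _ inf_le_right) (pow_succ_dvd_of_lt (h.sylT.pgroup.to_le inf_le_right)
      (lt_of_le_of_ne (inf_le_inf_left _ inf_le_left) fun e => h.uK (e.ge ⟨un, h.uT⟩).2.2) k.symm.dvd)
  have tV : c.r (hh n) ∈ c.sub 2 i := (hV.2.1 _).2 c.two_h
  have t1 : c.r (hh n) ≠ 1 := fun e => c.h_ne (c.r_eq_one_iff.1 e)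
  have := mem_c1.1 (h.mv ne VK (centralizer_le_normalizer _
    (cent_of_two f tV t1 hV.s_mem (c.s_ne_one i) (c.r_ne_s _ _) e2 e3)) (by rwa [e1, h.umul]))
  rw [e1] at this
  exact t1 (by simpa using this)

theorem na_four (hc : ⁅T, T⁆ ≠ ⊥) (i4 : K.relIndex T = 4) (c4 : #|T ⊓ K| = 4) : False := by
  have hV := h.four c4
  have c16 : #|T| = 16 := by rw [← h.card_T, i4, c4]
  have TV : T ≤ 𝐍(T ⊓ K) := le_normalizer_inf le_normalizer (inf_le_right.trans h.Kn)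
  have mE : ∀ {x}, x ∈ zpowers u ⊔ T ⊓ K ↔ x ∈ T ⊓ K ∨ u * x ∈ T ⊓ K := mem_sup_two h.uu (TV h.uT)
  have ET : zpowers u ⊔ T ⊓ K ≤ T := sup_le (zpowers_le.2 h.uT) inf_le_left
  have EV : zpowers u ⊔ T ⊓ K ≤ 𝐂(T ⊓ K) := sup_le (zpowers_le.2 fun v hv =>
    mem_centralizer_singleton_iff.1 hv.1.2) fun x hx v hv => hV.comm hv hx
  have EE : ∀ x ∈ T, x ∈ 𝐂(T ⊓ K) → x ∈ 𝐂(zpowers u ⊔ T ⊓ K) := fun x hx k y hy => by
    rcases mE.1 hy with l | l
    · exact k y l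
    · rw [← h.umul y, mul_assoc, k _ l, ← mul_assoc, ← mem_centralizer_singleton_iff.1 hx.2, mul_assoc]
  have Ene : zpowers u ⊔ T ⊓ K ≠ T := fun e => hc (commutator_eq_bot_iff_le_centralizer.2 fun x hx => by
    have := EE x hx (EV (e.ge hx))
    rwa [e] at this)
  have iE : (zpowers u ⊔ T ⊓ K).relIndex T = 2 := by
    have a := CL.card_mul_relIndex_of_le ET
    obtain ⟨k, hk⟩ := pow_succ_dvd_of_lt (h.sylT.pgroup.to_le ET) (lt_of_le_of_ne le_sup_right fun e =>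
      h.uK (e.ge (mem_sup_left (mem_zpowers u))).2) (a := 2) c4.symm.dvd
    have b := card_lt_of_lt (lt_of_le_of_ne ET Ene)
    have c : #|zpowers u ⊔ T ⊓ K| ≠ 0 := Nat.card_pos.ne'
    rw [c16] at a b
    rw [show #|zpowers u ⊔ T ⊓ K| = 8 by omega] at a
    omega
  have out : ∀ x ∈ T, x ∉ zpowers u ⊔ T ⊓ K → x ∉ 𝐂(T ⊓ K) := fun x hx hx' k => by
    have form : ∀ a ∈ T, a ∈ zpowers u ⊔ T ⊓ K ∨ x * a ∈ zpowers u ⊔ T ⊓ K := fun a ha =>
      (em _).imp_right (mul_mem_of_two iE hx ha hx')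
    have c1 : T ≤ 𝐂(zpowers u ⊔ T ⊓ K) := fun a ha => EE a ha (by
      rcases form a ha with l | l
      · exact EV l
      · exact (Subgroup.mul_mem_cancel_left _ k).1 (EV l))
    refine hc (commutator_eq_bot_iff_le_centralizer.2 fun a ha b hb => ?_)
    rcases form b hb with l | l
    · exact c1 ha b l
    rcases form a ha with l' | l'
    · exact (c1 hb a l').symm
    have e1 := c1 ha _ l
    have e2 := c1 hx _ l'
    have e3 : a * x = x * a := mul_left_cancel (a := x) (by rw [← mul_assoc, e2])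
    rw [← mul_assoc, e3, mul_assoc, mul_assoc] at e1
    exact mul_left_cancel e1
  obtain ⟨x, hx, hx'⟩ := SetLike.exists_of_lt (lt_of_le_of_ne ET Ene)
  obtain ⟨z, hz, zo, zc⟩ := h.exists_w hc
  have zV := h.comm_le hz
  have z1 := ne_of_ord2 zo
  have zT : ∀ y ∈ T, y * z * y⁻¹ = z := fun y hy => mem_c1.1 (zc ⟨hy.1, le_normalizer hy⟩)
  have uniq : ∀ y ∈ T, y ∉ zpowers u ⊔ T ⊓ K → ∀ w ∈ T ⊓ K, y * w * y⁻¹ = w → w = 1 ∨ w = z :=
    fun y hy hy' w hw e => by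
      by_contra! k
      exact out y hy hy' (cent_of_two hV hw k.1 zV z1 k.2 e (zT y hy))
  have hz' : ∀ w ∈ T, T ≤ 𝐂₁(w) → w ∈ T ⊓ K ∨ u * w ∈ T ⊓ K := fun w hw k => mE.1 (by
    by_contra l
    exact out w hw l fun v hv => mem_centralizer_singleton_iff.1 (k hv.1))
  rcases (inf_le_left : T ≤ S).eq_or_lt with he | hlt
  · refine h.top he hz' fun w hw hw' _ => ?_
    rcases uniq x hx hx' w hw (mem_c1.1 (hw' hx)) with rfl | rfl
    exacts [one_mem _, hz]
  have nc := h.nc hc hlt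
  have fus := fun d => h.fus hc hlt hz' (d := d)
  have key := fun g => h.key hc hlt hz' (g := g)
  obtain ⟨ρ, r1, r2, r3, r4⟩ := h.loud_four hV
  have ne := h.ne_lemma hV inf_le_right r1 r2 r3 r4 (fun g k => nc g k.2) (R := T)
    (le_inf TV inf_le_right) c16.symm.dvd
  obtain ⟨s, hs, hs'⟩ := h.exists_s hlt
  have sz : s * z * s⁻¹ = z := mem_c1.1 (zc hs)
  obtain ⟨a, ha, ha'⟩ : ∃ a ∈ T ⊓ K, a * x ≠ x * a := by
    by_contra! k
    exact out x hx hx' k
  have a1 : a ≠ 1 := by rintro rfl; simp at ha'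
  have az : a ≠ z := by
    rintro rfl
    exact ha' (mul_inv_eq_iff_eq_mul.1 (zT x hx)).symm
  have aa := hV.sq a ha
  have zz := hV.sq z zV
  set b := s * a * s⁻¹ with hb
  have bT : b ∈ T := conj_mem_of_normalizes le_rfl hs.2 ha.1
  have bb : b * b = 1 := conj_sq aa s
  have bi : b⁻¹ = b := inv_eq_of_mul_eq_one_right bb
  have bE : b ∉ zpowers u ⊔ T ⊓ K := fun k => by
    rcases mE.1 k with l | l
    · refine hs' (h.mv ne inf_le_right (mem_normalizer_of_cj_le (cj_le_iff_forall.2 fun v hv => ?_))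
        (key s hs.2))
      by_cases e1 : v = 1
      · simp [e1, one_mem]
      by_cases e2 : a = v
      · rwa [← e2]
      by_cases e3 : z = v
      · rwa [← e3, sz]
      rw [hV.eq_mul_of_ne ha zV hv a1 z1 e1 az e2 e3,
        show s * (a * z) * s⁻¹ = s * a * s⁻¹ * (s * z * s⁻¹) by group, sz]
      exact mul_mem l zV
    · obtain ⟨g, hg⟩ := isConj_iff.1 (fus _ l.2 (hV.sq _ l))
      refine nc (s⁻¹ * g) ?_
      rw [show s⁻¹ * g * u * (s⁻¹ * g)⁻¹ = s⁻¹ * (g * u * g⁻¹) * s by group, hg, h.umul, hb]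
      simpa [mul_assoc] using ha.2
  have ba : b * a * b⁻¹ = a * z := by
    have m := conj_mem_of_normalizes TV bT ha
    refine hV.eq_mul_of_ne ha zV m a1 z1 (conj_ne_one a1 b) az (fun e => ?_) fun e => az ?_
    · rcases uniq b bT bE a ha e.symm with l | l
      exacts [a1 l, az l]
    · rw [← zT b bT] at e
      simpa using e.symm
  have x2 : a * b * (a * b) = z := by
    rw [bi] at ba
    rw [mul_assoc, ← mul_assoc b, ba, ← mul_assoc, aa, one_mul]
  have xo : orderOf (a * b) = 2 ^ 2 := orderOf_eq_prime_pow (by rw [pow_one, sq, x2]; exact z1) (by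
    rw [show 2 ^ (1 + 1) = 2 * 2 by norm_num, pow_mul, sq, sq, x2, zz])
  have ai : a⁻¹ = a := inv_eq_of_mul_eq_one_right aa
  have xy : a * (a * b) * a⁻¹ = (a * b)⁻¹ := by
    rw [← mul_assoc, aa, one_mul, mul_inv_rev, bi]
  have ya : a ∉ zpowers (a * b) := fun k => by
    obtain ⟨k, hk⟩ := k
    have : a * (a * b) = a * b * a := by
      have := (Commute.refl (a * b)).zpow_left k
      rw [show (a * b) ^ k = a from hk] at this
      exact this
    rw [this, mul_inv_cancel_right, eq_inv_iff_mul_eq_one, x2] at xy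
    exact z1 xy
  let φ := CL.DQ.dihedralHom (m := 2 ^ 2) (a * b) a (xo ▸ pow_orderOf_eq_one _) aa xy
  have φi : Function.Injective φ := CL.DQ.dihedralHom_injective _ _ _ _ _ xo ya
  let c : Coord φ.range 2 := ofEquiv (by norm_num) (MonoidHom.ofInjective φi).symm
  have rle : ∀ M : Subgroup G, a ∈ M → b ∈ M → φ.range ≤ M := by
    rintro M k1 k2 _ ⟨y | y, rfl⟩
    · exact CL.DQ.zpw_mem (mul_mem k1 k2) y
    · exact mul_mem k1 (CL.DQ.zpw_mem (mul_mem k1 k2) y)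
  have DT := rle T ha.1 bT
  have DF : ∀ d ∈ φ.range, d ∈ T ⊓ K ∨ b * d ∈ T ⊓ K := fun d hd => (mem_sup_two bb (TV bT)).1
    (rle _ (mem_sup_right ha) (mem_sup_left (mem_zpowers b)) hd)
  have uD : u ∉ φ.range := fun k => (DF u k).elim (fun l => h.uK l.2) fun l => bE (mE.2 (Or.inr (by
    rwa [← mem_centralizer_singleton_iff.1 bT.2])))
  have inv : ∀ d ∈ φ.range, d * d = 1 → d ∈ T ⊓ K ∨ d = b ∨ d = b * z := fun d hd hdd =>
    (DF d hd).imp_right fun k => by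
      have e : d = b * (b * d) := by rw [← mul_assoc, bb, one_mul]
      rcases uniq b bT bE _ k (by
        rw [← e, bi, eq_comm, ← mul_right_inj d, ← mul_right_inj b, ← mul_assoc d d, hdd, one_mul, bb,
          ← mul_assoc, hV.sq _ k]) with l | l
      · exact Or.inl (by rw [e, l, mul_one])
      · exact Or.inr (by rw [e, l])
  have inv' : ∀ d ∈ φ.range, d * d = 1 → d ∈ T ⊓ K ∨ ∃ v ∈ T ⊓ K, d = s * v * s⁻¹ := fun d hd hdd =>
    (inv d hd hdd).imp_right fun k => by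
      rcases k with rfl | rfl
      · exact ⟨a, ha, rfl⟩
      · exact ⟨a * z, mul_mem ha zV, by rw [hb]; nth_rewrite 1 [← sz]; group⟩
  have aD : a ∈ φ.range := ⟨.sr 0, by simp [φ, CL.DQ.dihedralHom_sr, CL.DQ.zpw_zero]⟩
  have bD : b ∈ φ.range := ⟨.sr 1, by
    simp only [φ, CL.DQ.dihedralHom_sr]
    rw [CL.DQ.zpw_one, ← mul_assoc, aa, one_mul]
    exact xo ▸ pow_orderOf_eq_one _⟩
  have t1 : c.r (hh 2) ≠ 1 := fun e => c.h_ne (c.r_eq_one_iff.1 e)
  have tz : c.r (hh 2) = z := by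
    have k1 := c.r_h_comm aD
    have k2 := c.r_h_comm bD
    have ab : a * b ≠ b * a := fun e => z1 (by rw [← x2, mul_assoc, ← mul_assoc b, ← e, mul_assoc a, bb]; simpa)
    rcases inv _ (c.r_mem (hh 2)) (by rw [c.r_mul_r, ← two_mul, c.two_h, c.r_zero]) with k | k | k
    · exact (uniq b bT bE _ k (mul_inv_eq_iff_eq_mul.2 k2)).resolve_left t1
    · exact absurd (k ▸ k1) ab
    · rw [k, ← mul_assoc, mul_assoc b z, hV.comm zV ha, ← mul_assoc b] at k1
      exact absurd (mul_right_cancel k1) ab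
  have iD : φ.range.relIndex T = 2 := by
    have := CL.card_mul_relIndex_of_le DT
    rw [c.card, c16] at this
    omega
  refine CL.Len8.Beta.false (S := S) (c := c) (z := u) ⟨h.syl, no_two h.na, le_rfl,
    DT.trans inf_le_left, h.uT.1, h.uu, fun d hd => mem_centralizer_singleton_iff.1 (DT hd).2,
    fun g hg k => (em _).imp_right
      (mul_mem_of_two iD h.uT ⟨hg, mem_centralizer_singleton_iff.2 k⟩ uD), fun g k => ?_,
    fun d hd k => ?_, fun g _ i e1 e2 e3 => ?_⟩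
  · rcases inv' _ k (conj_sq h.uu g) with l | ⟨v, hv, l⟩
    · exact nc g l.2
    · refine nc (s⁻¹ * g) ?_
      rw [show s⁻¹ * g * u * (s⁻¹ * g)⁻¹ = s⁻¹ * (g * u * g⁻¹) * s by group, l]
      simpa [mul_assoc] using hv.2
  · rcases inv' _ hd k with l | ⟨v, hv, rfl⟩
    · exact fus d l.2 k
    · have m := mul_mem (key _ (inv_mem hs.2)) hv
      refine (fus _ m.2 (hV.sq _ m)).trans (isConj_iff.2 ⟨s, ?_⟩)
      rw [← mul_assoc u, h.umul]; group
  · rw [tz] at e1 e2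
    have s1 := c.s_ne_one i
    have s2 : z ≠ c.s i := tz ▸ c.r_ne_s _ _
    rcases inv' _ (c.s_mem i) (c.s_sq i) with l | ⟨v, hv, l⟩
    · have := mem_c1.1 (h.mv ne inf_le_right (centralizer_le_normalizer _
        (cent_of_two hV zV z1 l s1 s2 e2 e3)) (by rwa [e1, h.umul]))
      rw [e1] at this
      exact z1 (by simpa using this)
    · have d0 : s * u * s⁻¹ = u * z := by
        rcases uniq b bT bE _ (key s hs.2) (by
          rw [show b * (u * (s * u * s⁻¹)) * b⁻¹ = b * u * b⁻¹ * (b * (s * u * s⁻¹) * b⁻¹) by group,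
            mem_c1.1 bT.2, mem_c1.1 (h.le_c1_conj hs.2 bT)]) with k | k
        · exact absurd (mem_c1.2 (by rw [← inv_eq_of_mul_eq_one_right k, h.ui])) hs'
        · rw [← k, h.umul]
      have e4 : s⁻¹ * g * s * u * (s⁻¹ * g * s)⁻¹ = s⁻¹ * u * s⁻¹⁻¹ := by
        rw [show s⁻¹ * g * s * u * (s⁻¹ * g * s)⁻¹ = s⁻¹ * (g * (s * u * s⁻¹) * g⁻¹) * s by group, d0,
          show g * (u * z) * g⁻¹ = g * u * g⁻¹ * (g * z * g⁻¹) by group, e1, e2, mul_assoc u, zz]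
        group
      have := mem_c1.1 (h.mv ne inf_le_right (g := s⁻¹ * g * s) (centralizer_le_normalizer _
        (cent_of_two hV zV z1 hv (fun e => s1 (by simp [l, e])) (fun e => s2 (by rw [l, ← e, sz]))
          (by rw [show s⁻¹ * g * s * z * (s⁻¹ * g * s)⁻¹ = s⁻¹ * (g * (s * z * s⁻¹) * g⁻¹) * s by group,
            sz, e2]; nth_rewrite 1 [← sz]; group)
          (by rw [show s⁻¹ * g * s * v * (s⁻¹ * g * s)⁻¹ = s⁻¹ * (g * (s * v * s⁻¹) * g⁻¹) * s by group,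
            ← l, e3, l]; group))) (e4 ▸ key _ (inv_mem hs.2)))
      rw [e4] at this
      exact hs' (by simpa using inv_mem (mem_c1.2 this))

/-- **the Sylow `2`-subgroups are abelian.** -/
theorem comm : IsMulCommutative S := by
  by_cases hc : ⁅T, T⁆ = ⊥
  · have k : ∀ a ∈ T, ∀ b ∈ T, a * b = b * a := fun a ha b hb =>
      commutator_eq_bot_iff_le_centralizer.1 hc hb a ha
    rcases (inf_le_left : T ≤ S).eq_or_lt with he | hlt
    · exact ⟨⟨fun a b => Subtype.ext (k a (he.ge a.2) b (he.ge b.2))⟩⟩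
    · exact (h.abelian k hlt).elim
  · rcases h.idx with k | k
    · exact (h.na_two hc k).elim
    · exact (h.na_four hc k.1 k.2).elim

end Cf

end CL.Len
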