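import Mathlib
import Cfsg.Agent.INV.Len.Na

/-!
# Simple groups of length at most seven with a nonsolvable `2`-local subgroup
-/

set_option linter.unusedSectionVars false
set_option maxHeartbeats 400000

open Subgroup Cfsg CL.MSS CL.BG CL.JC CL.Dih CL.Z2
open scoped commutatorElement

namespace CL.Len

variable {G : Type*} [Group G] [Finite G] [IsSimpleGroup G]

theorem exists_inv (hG : ¬ IsMulCommutative G) (h8 : ¬ L G 8)
    (hN : ¬ ∀ N : Subgroup G, IsTwoLocal N → Group.IsSolvable N) :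
    ∃ u : G, orderOf u = 2 ∧ ¬ Group.IsSolvable 𝐂₁(u) := by
  simp only [not_forall] at hN
  obtain ⟨_, ⟨Q, hQ, h1, rfl⟩, hs⟩ := hN
  obtain ⟨u, hu, uo⟩ := exists_inv_of_ne_bot hQ h1
  refine ⟨u, uo, fun k => hs ?_⟩
  obtain ⟨a, ha⟩ := hQ.exists_card_eq
  have a2 : a ≤ 2 := by
    by_contra! l
    exact hs (solv_norm hG h8 hQ (ha ▸ pow_dvd_pow 2 l))
  have hA : Group.IsSolvable (MulAut Q) := by
    refine CL.Char.isSolvable_of_primes_subset_pair Nat.prime_two Nat.prime_three fun r hr hd => ?_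
    have b := hd.trans (card_dvd_of_injective (MulAction.toPermHom (MulAut Q) Q)
      MulAction.toPerm_injective)
    rw [Nat.card_perm, hr.dvd_factorial] at b
    have c : 2 ^ a ≤ 2 ^ 2 := Nat.pow_le_pow_right two_pos a2
    have := hr.two_le
    have : r ≠ 4 := by rintro rfl; exact absurd hr (by decide)
    omega
  have hk : Group.IsSolvable Q.normalizerMonoidHom.ker := by
    rw [normalizerMonoidHom_ker]
    exact CL.isSolvable_subgroupOf (CL.isSolvable_of_le (fun x hx =>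
      mem_centralizer_singleton_iff.2 (hx u hu).symm) k) _
  exact Group.isSolvable_of_ker_le_range Q.normalizerMonoidHom.ker.subtype Q.normalizerMonoidHom
    (by rw [range_subtype])

theorem quasi (hG : ¬ IsMulCommutative G) (h8 : ¬ L G 8) {u : G} (uo : orderOf u = 2)
    (hs : ¬ Group.IsSolvable 𝐂₁(u)) :
    IsSimpleGroup (pc 𝐂₁(u) ⧸ center (pc 𝐂₁(u))) ∧ Sm (pc 𝐂₁(u) ⧸ center (pc 𝐂₁(u))) := by
  set K := pc 𝐂₁(u)
  have : Group.IsPerfect K := isPerfect_iff.2 (pc_perfect _)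
  have : Nontrivial K := (nontrivial_iff_ne_bot _).2 (pc_ne_bot hs)
  have : Nontrivial (K ⧸ center K) := QuotientGroup.nontrivial_iff.2 fun e =>
    Group.IsPerfect.not_isMulCommutative K ⟨⟨fun a b => mem_center_iff.1 (e.ge (mem_top b)) a⟩⟩
  have h7 : ¬ L 𝐂₁(u) 7 := fun l => h8 (l.succ_of_ne (c1_ne_top hG uo))
  have h6 : ¬ L (K ⧸ center K) 6 := fun l => by
    by_cases k : u ∈ K
    · have : Nontrivial (center K) := (nontrivial_iff_ne_bot _).2 fun e => ne_of_ord2 uo (by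
        have : (⟨u, k⟩ : K) ∈ center K := mem_center_iff.2 fun g =>
          Subtype.ext (mem_centralizer_singleton_iff.1 (pc_le _ g.2))
        simpa [e] using this)
      exact h7 ((L.add_quot (center K) L.one l).of_le (pc_le _))
    · exact h7 ((l.of_surj (QuotientGroup.mk' _) (QuotientGroup.mk'_surjective _)).of_lt
        (lt_of_le_of_ne (pc_le _) fun e => k (e.ge (mem_c1.2 (by group)))))
  have := simple_of_not_L6 (Group.IsPerfect.center_quotient_center_eq_bot K) h6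
  exact ⟨this, sm_of (Group.IsPerfect.not_isMulCommutative _) h6⟩

theorem alpha (hG : ¬ IsMulCommutative G) (h8 : ¬ L G 8) {u : G} (uo : orderOf u = 2)
    (hs : ¬ Group.IsSolvable 𝐂₁(u)) (hu : u ∈ pc 𝐂₁(u)) : L G 7 ∧ PRankLE 2 2 G := by
  obtain ⟨h1, h2⟩ := quasi hG h8 uo hs
  have Kc := pc_le 𝐂₁(u)
  have Kn := le_normalizer_pc 𝐂₁(u)
  set K := pc 𝐂₁(u)
  have : Group.IsPerfect K := isPerfect_iff.2 (pc_perfect _)
  have ns := Group.IsPerfect.not_isSolvable (K ⧸ center K)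
  have uz : (⟨u, hu⟩ : K) ∈ center K := mem_center_iff.2 fun g =>
    Subtype.ext (mem_centralizer_singleton_iff.1 (Kc g.2))
  have uq : ∀ x ∈ K, orderOf x = 2 → x = u := fun x hx xo => congrArg Subtype.val
    (unique_inv h2 (by by_contra k; exact ns (CL.isSolvable_of_not_two_dvd _ k)) (QuotientGroup.mk' _)
      (QuotientGroup.mk'_surjective _) (QuotientGroup.ker_mk' _).le (u := ⟨u, hu⟩) (x := ⟨x, hx⟩)
      ((QuotientGroup.ker_mk' _).ge uz) (by rwa [← orderOf_coe]) (by rwa [← orderOf_coe]))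
  have l5 : L K 5 := by
    have : Nontrivial (center K) := (nontrivial_iff_ne_bot _).2 fun e => ne_of_ord2 uo (by
      simpa [e] using uz)
    exact L.add_quot (center K) L.one (L.four ns)
  have hp : IsPGroup 2 (zpowers u) := isPGroup_zpowers (k := 1) (by rw [pow_one, sq, sq_of_ord2 uo])
  obtain ⟨T, hT, uT⟩ := exists_sylIn_ge hp (zpowers_le.2 (hu |> Kc))
  have uT := zpowers_le.1 uT
  have hQ := hT.inf_normal_of_le Kn Kc
  have uc : u ∈ ⁅T, T⁆ := by
    have := CL.CF.inf_center_commutator_le (sylIn_top hQ.toSylow) (x := ⟨u, hu⟩)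
      ⟨⟨⟨uT, hu⟩, Group.IsPerfect.mem_commutator⟩, uz⟩
    have := mem_map_of_mem K.subtype this
    rw [map_commutator, hQ.map_toSylow] at this
    exact commutator_mono inf_le_left inf_le_left this
  obtain ⟨a, ha⟩ := hT.pgroup.exists_card_eq
  obtain ⟨j, -, hj⟩ := (Nat.dvd_prime_pow Nat.prime_two).1 (ha ▸ relIndex_dvd_card K T)
  have j1 : j ≤ 1 := by
    by_contra! l
    exact h8 (((L_of_relIndex hT.le Kn Kc l5 hj.symm.dvd).anti (by omega)).succ_of_ne (c1_ne_top hG uo))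
  have hc : ⁅T, T⁆ ≤ K := comm_le_of_four (hT.le.trans Kn) (hj ▸ pow_dvd_pow 2 (show j ≤ 2 by omega))
  have hS : SylIn 2 T ⊤ := hT.of_normalizer_le le_top fun g hg => mem_c1.2 (uq _ (hc
    (conj_mem_of_normalizes (le_normalizer_commutator le_rfl le_rfl) hg.2 uc))
    (ord2 (conj_ne_one (ne_of_ord2 uo) g) (conj_sq (sq_of_ord2 uo) g)))
  have i2 : K.relIndex T = 2 := by
    interval_cases j
    · have i := CL.Iso.isolatedInvolution_of_sylow hS.toSylowTop uo fun g hg =>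
        uq _ (relIndex_eq_one.1 hj hg) (ord2 (conj_ne_one (ne_of_ord2 uo) g) (conj_sq (sq_of_ord2 uo) g))
      have hO : oddCore G = ⊥ := (IsSimpleGroup.eq_bot_or_eq_top_of_normal _ inferInstance).resolve_right
        fun e => by
          have := CL.coprime_card_pPrimeCore 2 G
          change (Nat.card (oddCore G)).Coprime 2 at this
          rw [e, card_top] at this
          exact (Nat.coprime_two_right.1 this).not_two_dvd_nat (uo ▸ orderOf_dvd_natCard u)
      exact absurd (top_le_iff.1 fun g _ => mem_centralizer_singleton_iff.2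
        (mem_center_iff.1 (CL.BS.zstar_center i hO) g)) (c1_ne_top hG uo)
    · exact hj
  refine ⟨(L_of_relIndex hT.le Kn Kc l5 (j := 1) i2.symm.dvd).succ_of_ne (c1_ne_top hG uo),
    fun A _ hA => ?_⟩
  obtain ⟨g, -, hg⟩ := hS.exists_conj_le (R := A)
    (isPGroup_iff_forall_mem.2 fun x hx => ⟨1, by simpa using hA x hx⟩) le_top
  have b1 : #|K ⊓ g •ᶜ A| ≤ 2 := by
    rw [← uo, ← Nat.card_zpowers]
    refine card_le_of_le ?_
    rintro _ ⟨k, y, hy, rfl⟩
    by_cases e : y = 1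
    · simp [e]
    · exact (uq _ k (ord2 (conj_ne_one e g) (conj_sq (by rw [← sq, hA y hy]) g))).symm ▸ mem_zpowers u
  have b2 : K.relIndex (g •ᶜ A) ≤ 2 := i2 ▸ relIndex_le_of_le_right hg index_ne_zero_of_finite
  rw [← card_cj g, ← CL.card_inf_mul_relIndex K]
  exact Nat.mul_le_mul b1 b2

/-- **the reduction.** -/
theorem reduce (hG : ¬ IsMulCommutative G) (h8 : ¬ L G 8)
    (hN : ¬ ∀ N : Subgroup G, IsTwoLocal N → Group.IsSolvable N) (S : Sylow 2 G) :
    IsMulCommutative (S : Subgroup G) ∨ (L G 7 ∧ PRankLE 2 2 G) := by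
  by_cases ha : ∃ u : G, orderOf u = 2 ∧ ¬ Group.IsSolvable 𝐂₁(u) ∧ u ∈ pc 𝐂₁(u)
  · obtain ⟨u, h1, h2, h3⟩ := ha
    exact Or.inr (alpha hG h8 h1 h2 h3)
  obtain ⟨u, ⟨uo, hs⟩, hm⟩ := Set.Finite.exists_maximalFor (fun u : G => (#|𝐂₁(u)|).factorization 2)
    {u | orderOf u = 2 ∧ ¬ Group.IsSolvable 𝐂₁(u)} (Set.toFinite _) (exists_inv hG h8 hN)
  obtain ⟨h1, h2⟩ := quasi hG h8 uo hs
  have kf : Kf (pc 𝐂₁(u)) := kf_of (pc_perfect _) h2 fun k => by
    obtain ⟨z, hz⟩ := exists_prime_orderOf_dvd_card' 2 k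
    have le : pc 𝐂₁(u) ≤ 𝐂₁((z.1 : G)) := fun x hx => mem_centralizer_singleton_iff.2
      (congrArg Subtype.val (mem_center_iff.1 z.2 ⟨x, hx⟩))
    have : Group.IsPerfect (pc 𝐂₁(u)) := isPerfect_iff.2 (pc_perfect _)
    have : Nontrivial (pc 𝐂₁(u)) := (nontrivial_iff_ne_bot _).2 (pc_ne_bot hs)
    exact ha ⟨z.1, by rw [orderOf_coe, orderOf_coe, hz], fun l =>
      Group.IsPerfect.not_isSolvable _ (CL.isSolvable_of_le le l), le_pc le (pc_perfect _) z.1.2⟩
  obtain ⟨T, hT⟩ := exists_sylIn 2 𝐂₁(u)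
  obtain ⟨P, hP, hTP⟩ := exists_sylIn_ge hT.pgroup le_top
  have e : P ⊓ 𝐂₁(u) = T := hT.max _ (hP.pgroup.to_le inf_le_left) (le_inf hTP hT.le) inf_le_right
  have c : Cf u (pc 𝐂₁(u)) P := ⟨hG, h8, uo, kf, pc_le _, le_normalizer_pc _, fun k => ha ⟨u, uo, hs, k⟩,
    hP, e ▸ hT, fun r ro le R hR pR => by
      obtain ⟨Q, hQ⟩ := exists_sylIn 2 𝐂₁(r)
      refine (hQ.card_le pR hR).trans ?_
      rw [e, hQ.card_eq_pow_factorization, hT.card_eq_pow_factorization]
      refine Nat.pow_le_pow_right two_pos ?_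
      by_contra! l
      exact absurd (hm ⟨ro, fun k => kf.ns (CL.isSolvable_of_le le k)⟩ l.le) (not_le.2 l)⟩
  obtain ⟨x, -, hx⟩ := hP.exists_conj (sylIn_top S)
  exact Or.inl (hx ▸ isMulCommutative_cj x c.comm)

end CL.Len
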